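import Mathlib

/-!
# TEAM GW [J]: fixed points of an operator of order `p` with a small centralizer (helper748)

`key_ineq` : `k ^ 2 + dim C(N | N W) ≤ dim C(N)`, `k = dim ker N`.
`nil` : `N ^ e = 0` gives `d ^ 2 ≤ e * dim C(N)`.
`sqfree` : `f(h) = 0`, `f` squarefree gives `d ^ 2 ≤ deg f * dim C(h)`.
-/

set_option autoImplicit false

namespace Cfsg.Agent.H748.GW

open Module Polynomial

/-- Cauchy-Schwarz -/
theorem cs {a b c₁ c₂ e₁ e₂ : ℕ} (h1 : a ^ 2 ≤ e₁ * c₁) (h2 : b ^ 2 ≤ e₂ * c₂) :
    (a + b) ^ 2 ≤ (e₁ + e₂) * (c₁ + c₂) := by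
  have h3 : 2 * (a * b) ≤ e₁ * c₂ + e₂ * c₁ := by
    have h4 : (2 * (a * b)) ^ 2 ≤ (e₁ * c₂ + e₂ * c₁) ^ 2 := by
      have h5 : a ^ 2 * b ^ 2 ≤ e₁ * c₁ * (e₂ * c₂) := Nat.mul_le_mul h1 h2
      have h6 : 4 * (e₁ * c₂ * (e₂ * c₁)) ≤ (e₁ * c₂ + e₂ * c₁) ^ 2 := by
        zify
        nlinarith [sq_nonneg ((e₁ * c₂ : ℤ) - e₂ * c₁)]
      calc (2 * (a * b)) ^ 2 = 4 * (a ^ 2 * b ^ 2) := by ring
        _ ≤ 4 * (e₁ * c₁ * (e₂ * c₂)) := Nat.mul_le_mul_left 4 h5
        _ = 4 * (e₁ * c₂ * (e₂ * c₁)) := by ring
        _ ≤ _ := h6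
    exact (Nat.pow_le_pow_iff_left (by norm_num)).1 h4
  nlinarith

section
variable {F : Type*} [Field F]

/-- the centralizer of an operator -/
def CC {W : Type*} [AddCommGroup W] [Module F W] (N : Module.End F W) : Submodule F (Module.End F W) :=
  Subalgebra.toSubmodule (Subalgebra.centralizer F ({N} : Set (Module.End F W)))

theorem mem_CC {W : Type*} [AddCommGroup W] [Module F W] {N T : Module.End F W} : T ∈ CC N ↔ N * T = T * N := by
  rw [CC, Subalgebra.mem_toSubmodule, Subalgebra.mem_centralizer_iff]
  simp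

theorem freeCC {W : Type*} [AddCommGroup W] [Module F W] (N : Module.End F W) : Module.Free F (CC N) := inferInstance

theorem finCC {W : Type*} [AddCommGroup W] [Module F W] [FiniteDimensional F W] (N : Module.End F W) :
    Module.Finite F (CC N) := inferInstance

/-- the restriction of `N` to its range -/
def res {W : Type*} [AddCommGroup W] [Module F W] (N : Module.End F W) : Module.End F (LinearMap.range N) :=
  N.restrict (fun x _ => LinearMap.mem_range_self N x)

theorem res_apply {W : Type*} [AddCommGroup W] [Module F W] (N : Module.End F W) (r : LinearMap.range N) :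
    ((res N r : LinearMap.range N) : W) = N r := rfl

theorem key_ineq {W : Type*} [AddCommGroup W] [Module F W] [FiniteDimensional F W] (N : Module.End F W) :
    finrank F (LinearMap.ker N) ^ 2 + finrank F (CC (res N)) ≤ finrank F (CC N) := by
  obtain ⟨Q, hQ⟩ := Submodule.exists_isCompl (LinearMap.range N)
  obtain ⟨s, hs⟩ := LinearMap.exists_rightInverse_of_surjective N.rangeRestrict (LinearMap.range_rangeRestrict N)
  have hs' : ∀ v : LinearMap.range N, N (s v) = v := fun v => by
    have := congrArg (fun f : LinearMap.range N →ₗ[F] LinearMap.range N => ((f v : LinearMap.range N) : W)) hs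
    exact this
  set PR := Submodule.projectionOnto (LinearMap.range N) Q hQ with hPR
  set PQ := Submodule.projectionOnto Q (LinearMap.range N) hQ.symm with hPQ
  have dec : ∀ w : W, (PR w : W) + PQ w = w := fun w => by
    have h1 := Submodule.projection_add_projection_eq_self hQ w
    exact h1
  have PRr : ∀ v : LinearMap.range N, PR v = v := fun v => Submodule.projectionOnto_apply_left hQ v
  have PQr : ∀ v : LinearMap.range N, PQ v = 0 := fun v => Submodule.projectionOnto_apply_right hQ.symm v
  have PRq : ∀ v : Q, PR v = 0 := fun v => Submodule.projectionOnto_apply_right hQ v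
  have PQq : ∀ v : Q, PQ v = v := fun v => Submodule.projectionOnto_apply_left hQ.symm v
  let Ψ₀ : (Q →ₗ[F] LinearMap.ker N) × (CC (res N)) → Module.End F W := fun z =>
    (LinearMap.range N).subtype ∘ₗ (z.2 : Module.End F (LinearMap.range N)) ∘ₗ PR +
      (s ∘ₗ (z.2 : Module.End F (LinearMap.range N)) ∘ₗ N.rangeRestrict ∘ₗ Q.subtype ∘ₗ PQ +
        (LinearMap.ker N).subtype ∘ₗ z.1 ∘ₗ PQ)
  have hΨa : ∀ z w, Ψ₀ z w = ((z.2 : Module.End F (LinearMap.range N)) (PR w) : W) +
      (s ((z.2 : Module.End F (LinearMap.range N)) (N.rangeRestrict (PQ w : W))) + (z.1 (PQ w) : W)) := fun z w => rfl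
  have hmem : ∀ z, Ψ₀ z ∈ CC N := by
    intro z
    rw [mem_CC]
    have hz : res N * z.2 = z.2 * res N := mem_CC.1 z.2.2
    ext w
    rw [Module.End.mul_apply, Module.End.mul_apply, hΨa, hΨa]
    have e1 : N ((z.2 : Module.End F (LinearMap.range N)) (PR w) : W) =
        ((z.2 : Module.End F (LinearMap.range N)) (res N (PR w)) : W) := by
      rw [← res_apply, ← Module.End.mul_apply, hz, Module.End.mul_apply]
    have e2 : (N w) = ((N.rangeRestrict w : LinearMap.range N) : W) := rfl
    have e3 : PR (N w) = N.rangeRestrict w := by rw [e2, PRr]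
    have e4 : PQ (N w) = 0 := by rw [e2, PQr]
    have e5 : N (z.1 (PQ w) : W) = 0 := (z.1 (PQ w)).2
    rw [map_add, map_add, hs', e1, e5, add_zero, e3, e4, map_zero]
    have e6 : N.rangeRestrict w = res N (PR w) + N.rangeRestrict (PQ w : W) := by
      apply Subtype.ext
      rw [Submodule.coe_add, res_apply]
      show N w = N (PR w) + N (PQ w)
      rw [← map_add, dec]
    rw [e6, map_add, Submodule.coe_add]
    simp
  let Ψ : (Q →ₗ[F] LinearMap.ker N) × (CC (res N)) →ₗ[F] CC N :=
    { toFun := fun z => ⟨Ψ₀ z, hmem z⟩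
      map_add' := fun z z' => by
        apply Subtype.ext
        ext w
        show Ψ₀ (z + z') w = Ψ₀ z w + Ψ₀ z' w
        rw [hΨa, hΨa, hΨa]
        simp only [Prod.snd_add, Prod.fst_add, Submodule.coe_add, LinearMap.add_apply, Submodule.coe_add, map_add]
        abel
      map_smul' := fun c z => by
        apply Subtype.ext
        ext w
        show Ψ₀ (c • z) w = c • Ψ₀ z w
        rw [hΨa, hΨa]
        simp only [Prod.smul_snd, Prod.smul_fst, Submodule.coe_smul, LinearMap.smul_apply, Submodule.coe_smul,
          map_smul, smul_add] }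
  have hinj : Function.Injective Ψ := by
    rw [injective_iff_map_eq_zero]
    intro z hz
    have h0 : ∀ w, Ψ₀ z w = 0 := fun w => by
      have := congrArg (fun f : CC N => (f : Module.End F W) w) hz
      exact this
    have h1 : z.2 = 0 := by
      apply Subtype.ext
      ext v
      have h2 := h0 (v : W)
      rw [hΨa, PRr, PQr] at h2
      simpa using h2
    have h3 : z.1 = 0 := by
      ext v
      have h2 := h0 (v : W)
      rw [hΨa, PRq, PQq, h1] at h2
      simpa using h2
    exact Prod.ext h3 h1
  have hle := LinearMap.finrank_le_finrank_of_injective hinj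
  have i1 := freeCC (res N)
  have i2 := finCC (res N)
  rw [Module.finrank_prod, Module.finrank_linearMap] at hle
  have hQd : finrank F Q = finrank F (LinearMap.ker N) := by
    have h1 := Submodule.finrank_add_eq_of_isCompl hQ
    have h2 := LinearMap.finrank_range_add_finrank_ker N
    omega
  rw [hQd, ← pow_two] at hle
  exact hle

theorem res_pow {W : Type*} [AddCommGroup W] [Module F W] (N : Module.End F W) (e : ℕ) (r : LinearMap.range N) :
    ((((res N) ^ e) r : LinearMap.range N) : W) = (N ^ e) r := by
  induction e generalizing r with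
  | zero => rfl
  | succ e ih => rw [pow_succ, pow_succ, Module.End.mul_apply, Module.End.mul_apply, ih, res_apply]

/-- the nilpotent case -/
theorem nil (e : ℕ) : ∀ {W : Type*} [AddCommGroup W] [Module F W] [FiniteDimensional F W] (N : Module.End F W),
    N ^ e = 0 → finrank F W ^ 2 ≤ e * finrank F (CC N) := by
  induction e with
  | zero =>
    intro W _ _ _ N hN
    have h1 : ∀ w : W, w = 0 := fun w => by
      have := congrArg (fun f : Module.End F W => f w) hN
      simpa using this
    have : Subsingleton W := ⟨fun a b => by rw [h1 a, h1 b]⟩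
    rw [Module.finrank_zero_of_subsingleton]
    simp
  | succ e ih =>
    intro W _ _ _ N hN
    have h1 : (res N) ^ e = 0 := by
      ext r
      rw [res_pow]
      obtain ⟨w, hw⟩ := r.2
      rw [← hw, ← Module.End.mul_apply, ← pow_succ, hN]
      rfl
    have h2 := ih (res N) h1
    have h3 := key_ineq N
    have h4 := LinearMap.finrank_range_add_finrank_ker N
    have h5 : finrank F (LinearMap.ker N) ^ 2 ≤ 1 * finrank F (LinearMap.ker N) ^ 2 := by rw [one_mul]
    have h6 := cs h2 h5
    rw [h4] at h6
    refine h6.trans (Nat.mul_le_mul_left _ ?_)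
    rw [add_comm]
    exact h3

/-- the irreducible case -/
theorem irr {W : Type*} [AddCommGroup W] [Module F W] [FiniteDimensional F W] (h : Module.End F W) {f : F[X]}
    (hf : Irreducible f) (ha : aeval h f = 0) : finrank F W ^ 2 ≤ f.natDegree * finrank F (CC h) := by
  have : Fact (Irreducible f) := ⟨hf⟩
  let φ : AdjoinRoot f →ₐ[F] Module.End F W := Ideal.Quotient.liftₐ (Ideal.span {f}) (aeval h) (by
    intro a ha'
    obtain ⟨b, rfl⟩ := Ideal.mem_span_singleton'.1 ha'
    rw [map_mul, ha, mul_zero])
  have hφ : φ (AdjoinRoot.root f) = h := by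
    have h1 : φ (AdjoinRoot.mk f X) = aeval h X := rfl
    rw [aeval_X] at h1
    exact h1
  let _ : Module (AdjoinRoot f) W := Module.compHom W φ.toRingHom
  have hsm : ∀ (a : AdjoinRoot f) (w : W), a • w = φ a w := fun a w => rfl
  have : IsScalarTower F (AdjoinRoot f) W := ⟨fun c a w => by
    rw [hsm, hsm, map_smul, LinearMap.smul_apply]⟩
  have h1 : finrank F (AdjoinRoot f) = f.natDegree := by
    rw [(AdjoinRoot.powerBasis hf.ne_zero).finrank, AdjoinRoot.powerBasis_dim]
  have hfin : Module.Finite (AdjoinRoot f) W := Module.Finite.right F (AdjoinRoot f) W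
  have h2 := Module.finrank_mul_finrank F (AdjoinRoot f) W
  have h3 : finrank (AdjoinRoot f) (W →ₗ[AdjoinRoot f] W) = finrank (AdjoinRoot f) W * finrank (AdjoinRoot f) W :=
    Module.finrank_linearMap _ _ _ _
  have h4 := Module.finrank_mul_finrank F (AdjoinRoot f) (W →ₗ[AdjoinRoot f] W)
  let Ψ : (W →ₗ[AdjoinRoot f] W) →ₗ[F] CC h :=
    { toFun := fun T => ⟨T.restrictScalars F, by
        rw [mem_CC]
        ext w
        show h (T w) = T (h w)
        rw [← hφ, ← hsm, ← hsm, map_smul]⟩
      map_add' := fun S T => rfl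
      map_smul' := fun c T => rfl }
  have hinj : Function.Injective Ψ := by
    intro S T hST
    ext w
    exact congrArg (fun f : CC h => (f : Module.End F W) w) hST
  have hle := LinearMap.finrank_le_finrank_of_injective hinj
  rw [h1] at h2 h4
  rw [h3] at h4
  calc finrank F W ^ 2 = f.natDegree * (f.natDegree * (finrank (AdjoinRoot f) W * finrank (AdjoinRoot f) W)) := by
        rw [← h2]; ring
    _ ≤ _ := by
        rw [h4]
        exact Nat.mul_le_mul_left _ hle

theorem aeval_res {W : Type*} [AddCommGroup W] [Module F W] (h : Module.End F W) (A : Submodule F W)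
    (hA : ∀ x ∈ A, h x ∈ A) (f : F[X]) (a : A) : ((aeval (h.restrict hA) f a : A) : W) = aeval h f a := by
  induction f using Polynomial.induction_on' with
  | add p q hp hq =>
    rw [map_add, map_add, LinearMap.add_apply, LinearMap.add_apply, Submodule.coe_add, hp, hq]
  | monomial n c =>
    rw [aeval_monomial, aeval_monomial, Module.End.mul_apply, Module.End.mul_apply,
      Module.algebraMap_end_apply, Module.algebraMap_end_apply, Submodule.coe_smul]
    congr 1
    induction n generalizing a with
    | zero => rfl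
    | succ n ih => rw [pow_succ, pow_succ, Module.End.mul_apply, Module.End.mul_apply, ih]; rfl

/-- direct sums -/
theorem split {W : Type*} [AddCommGroup W] [Module F W] [FiniteDimensional F W] (h : Module.End F W)
    {A B : Submodule F W} (hAB : IsCompl A B) (hA : ∀ x ∈ A, h x ∈ A) (hB : ∀ x ∈ B, h x ∈ B) :
    finrank F (CC (h.restrict hA)) + finrank F (CC (h.restrict hB)) ≤ finrank F (CC h) := by
  set PR := Submodule.projectionOnto A B hAB with hPR
  set PQ := Submodule.projectionOnto B A hAB.symm with hPQ
  have dec : ∀ w : W, (PR w : W) + PQ w = w := fun w => by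
    have h1 := Submodule.projection_add_projection_eq_self hAB w
    exact h1
  have PRr : ∀ v : A, PR v = v := fun v => Submodule.projectionOnto_apply_left hAB v
  have PQr : ∀ v : A, PQ v = 0 := fun v => Submodule.projectionOnto_apply_right hAB.symm v
  have PRq : ∀ v : B, PR v = 0 := fun v => Submodule.projectionOnto_apply_right hAB v
  have PQq : ∀ v : B, PQ v = v := fun v => Submodule.projectionOnto_apply_left hAB.symm v
  let Ψ₀ : (CC (h.restrict hA)) × (CC (h.restrict hB)) → Module.End F W := fun z =>
    A.subtype ∘ₗ (z.1 : Module.End F A) ∘ₗ PR + B.subtype ∘ₗ (z.2 : Module.End F B) ∘ₗ PQ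
  have hΨa : ∀ z w, Ψ₀ z w = ((z.1 : Module.End F A) (PR w) : W) + ((z.2 : Module.End F B) (PQ w) : W) :=
    fun z w => rfl
  have hmem : ∀ z, Ψ₀ z ∈ CC h := by
    intro z
    rw [mem_CC]
    have hz1 : h.restrict hA * z.1 = z.1 * h.restrict hA := mem_CC.1 z.1.2
    have hz2 : h.restrict hB * z.2 = z.2 * h.restrict hB := mem_CC.1 z.2.2
    ext w
    rw [Module.End.mul_apply, Module.End.mul_apply, hΨa, hΨa]
    have e1 : h ((z.1 : Module.End F A) (PR w) : W) = ((z.1 : Module.End F A) (h.restrict hA (PR w)) : W) := by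
      have h1 : h ((z.1 : Module.End F A) (PR w) : W) = ((h.restrict hA ((z.1 : Module.End F A) (PR w)) : A) : W) :=
        rfl
      rw [h1, ← Module.End.mul_apply, hz1, Module.End.mul_apply]
    have e2 : h ((z.2 : Module.End F B) (PQ w) : W) = ((z.2 : Module.End F B) (h.restrict hB (PQ w)) : W) := by
      have h1 : h ((z.2 : Module.End F B) (PQ w) : W) = ((h.restrict hB ((z.2 : Module.End F B) (PQ w)) : B) : W) :=
        rfl
      rw [h1, ← Module.End.mul_apply, hz2, Module.End.mul_apply]
    have e3 : h w = ((h.restrict hA (PR w) : A) : W) + ((h.restrict hB (PQ w) : B) : W) := by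
      show h w = h (PR w) + h (PQ w)
      rw [← map_add, dec]
    have e4 : PR (h w) = h.restrict hA (PR w) := by rw [e3, map_add, PRr, PRq, add_zero]
    have e5 : PQ (h w) = h.restrict hB (PQ w) := by rw [e3, map_add, PQr, PQq, zero_add]
    rw [map_add, e1, e2, e4, e5]
  let Ψ : (CC (h.restrict hA)) × (CC (h.restrict hB)) →ₗ[F] CC h :=
    { toFun := fun z => ⟨Ψ₀ z, hmem z⟩
      map_add' := fun z z' => by
        apply Subtype.ext
        ext w
        show Ψ₀ (z + z') w = Ψ₀ z w + Ψ₀ z' w
        rw [hΨa, hΨa, hΨa]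
        simp only [Prod.snd_add, Prod.fst_add, Submodule.coe_add, LinearMap.add_apply]
        abel
      map_smul' := fun c z => by
        apply Subtype.ext
        ext w
        show Ψ₀ (c • z) w = c • Ψ₀ z w
        rw [hΨa, hΨa]
        simp only [Prod.smul_snd, Prod.smul_fst, LinearMap.smul_apply, Submodule.coe_smul, smul_add] }
  have hinj : Function.Injective Ψ := by
    rw [injective_iff_map_eq_zero]
    intro z hz
    have h0 : ∀ w, Ψ₀ z w = 0 := fun w => by
      have := congrArg (fun f : CC h => (f : Module.End F W) w) hz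
      exact this
    have h1 : z.1 = 0 := by
      apply Subtype.ext
      ext v
      have h2 := h0 (v : W)
      rw [hΨa, PRr, PQr] at h2
      simpa using h2
    have h3 : z.2 = 0 := by
      apply Subtype.ext
      ext v
      have h2 := h0 (v : W)
      rw [hΨa, PRq, PQq] at h2
      simpa using h2
    exact Prod.ext h1 h3
  have hle := LinearMap.finrank_le_finrank_of_injective hinj
  have i1 := freeCC (h.restrict hA)
  have i2 := finCC (h.restrict hA)
  have i3 := freeCC (h.restrict hB)
  have i4 := finCC (h.restrict hB)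
  rwa [Module.finrank_prod] at hle

universe u in
/-- the squarefree case -/
theorem sqfree {F : Type*} [Field F] (f : F[X]) : Squarefree f → ∀ {W : Type u} [AddCommGroup W] [Module F W]
    [FiniteDimensional F W] (h : Module.End F W), aeval h f = 0 → finrank F W ^ 2 ≤ f.natDegree * finrank F (CC h) := by
  have hunit : ∀ {f : F[X]}, IsUnit f → ∀ {W : Type u} [AddCommGroup W] [Module F W]
    [FiniteDimensional F W] (h : Module.End F W), aeval h f = 0 →
      finrank F W ^ 2 ≤ f.natDegree * finrank F (CC h) := by
    intro f hf W _ _ _ h ha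
    have h1 : IsUnit (aeval h f) := hf.map (aeval h)
    rw [ha, isUnit_zero_iff] at h1
    have h2 : ∀ w : W, w = 0 := fun w => by
      have := congrArg (fun f : Module.End F W => f w) h1
      simpa using this.symm
    have : Subsingleton W := ⟨fun a b => by rw [h2 a, h2 b]⟩
    rw [Module.finrank_zero_of_subsingleton]
    simp
  induction f using UniqueFactorizationMonoid.induction_on_coprime with
  | h0 => intro hs; exact absurd hs not_squarefree_zero
  | h1 hf => intro _ W _ _ _ h ha; exact hunit hf h ha
  | @hpr f i hf =>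
    intro hs W _ _ _ h ha
    rcases i with _ | _ | i
    · exact hunit (by simp) h ha
    · rw [zero_add, pow_one] at ha ⊢
      exact irr h hf.irreducible ha
    · exfalso
      have h1 : f * f ∣ f ^ (i + 1 + 1) := ⟨f ^ i, by ring⟩
      exact hf.not_isUnit (hs f h1)
  | @hcp f₁ f₂ hc ih₁ ih₂ =>
    intro hs W _ _ _ h ha
    have hc' : IsCoprime f₁ f₂ := hc.isCoprime
    have hs1 : Squarefree f₁ := hs.squarefree_of_dvd (Dvd.intro _ rfl)
    have hs2 : Squarefree f₂ := hs.squarefree_of_dvd (Dvd.intro_left _ rfl)
    have hcomm : ∀ (f : F[X]) (x : W), aeval h f (h x) = h (aeval h f x) := by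
      intro f x
      rw [← Module.End.mul_apply, ← Module.End.mul_apply]
      congr 1
      have h1 : aeval h (f * X) = aeval h (X * f) := by rw [mul_comm]
      rw [map_mul, map_mul, aeval_X] at h1
      exact h1
    have hA : ∀ x ∈ LinearMap.ker (aeval h f₁), h x ∈ LinearMap.ker (aeval h f₁) := by
      intro x hx
      rw [LinearMap.mem_ker] at hx ⊢
      rw [hcomm, hx, map_zero]
    have hB : ∀ x ∈ LinearMap.ker (aeval h f₂), h x ∈ LinearMap.ker (aeval h f₂) := by
      intro x hx
      rw [LinearMap.mem_ker] at hx ⊢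
      rw [hcomm, hx, map_zero]
    have hAB : IsCompl (LinearMap.ker (aeval h f₁)) (LinearMap.ker (aeval h f₂)) := by
      refine ⟨disjoint_ker_aeval_of_isCoprime h hc', ?_⟩
      rw [codisjoint_iff, sup_ker_aeval_eq_ker_aeval_mul_of_coprime h hc', ha, LinearMap.ker_zero]
    have h1 := ih₁ hs1 (h.restrict hA) (by
      ext a
      rw [aeval_res]
      exact a.2)
    have h2 := ih₂ hs2 (h.restrict hB) (by
      ext a
      rw [aeval_res]
      exact a.2)
    have h3 := cs h1 h2
    rw [Submodule.finrank_add_eq_of_isCompl hAB, ← natDegree_mul hs1.ne_zero hs2.ne_zero] at h3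
    exact h3.trans (Nat.mul_le_mul_left _ (split h hAB hA hB))

/-- [J] **an operator of order `p` with a small centralizer has few fixed points** -/
theorem dim_fix {F W : Type*} [Field F] [AddCommGroup W] [Module F W] [FiniteDimensional F W]
    {p m : ℕ} (hp : p.Prime) (g : Module.End F W) (hg : g ^ p = 1)
    (hc : p * finrank F (Subalgebra.centralizer F ({g} : Set (Module.End F W))) ≤ finrank F W ^ 2 + (p - 1) * m ^ 2) :
    p * finrank F (LinearMap.ker (g - 1)) ≤ finrank F W + (p - 1) * m := by
  have hpf : Fact p.Prime := ⟨hp⟩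
  have hCC : finrank F (Subalgebra.centralizer F ({g} : Set (Module.End F W))) = finrank F (CC (g - 1)) := by
    have h1 : CC (g - 1) = CC g := by
      ext T
      rw [mem_CC, mem_CC, sub_mul, mul_sub, one_mul, mul_one, sub_left_inj]
    rw [h1]
    rfl
  rw [hCC] at hc
  have h1 := key_ineq (g - 1)
  have h2 := LinearMap.finrank_range_add_finrank_ker (g - 1)
  have h3 : finrank F (LinearMap.range (g - 1)) ^ 2 ≤ (p - 1) * finrank F (CC (res (g - 1))) := by
    by_cases hch : (p : F) = 0
    · have hcp : CharP F p := (CharP.charP_iff_prime_eq_zero hp).2 hch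
      have e1 : (g - 1) ^ p = 0 := by
        have e2 : ((X : F[X]) - 1) ^ p = X ^ p - 1 := by rw [sub_pow_char, one_pow]
        have e3 := congrArg (aeval g) e2
        rw [map_pow, map_sub, map_sub, map_pow, aeval_X, map_one, hg, sub_self] at e3
        exact e3
      apply nil
      ext r
      rw [res_pow]
      obtain ⟨w, hw⟩ := r.2
      rw [← hw, ← Module.End.mul_apply, ← pow_succ, Nat.sub_add_cancel hp.one_le, e1]
      rfl
    · have hR : ∀ x ∈ LinearMap.range (g - 1), g x ∈ LinearMap.range (g - 1) := by
        rintro _ ⟨w, rfl⟩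
        refine ⟨g w, ?_⟩
        simp
      have e0 : CC (res (g - 1)) = CC (g.restrict hR) := by
        have e1 : res (g - 1) = g.restrict hR - 1 := by
          ext x
          rfl
        ext T
        rw [mem_CC, mem_CC, e1, sub_mul, mul_sub, one_mul, mul_one, sub_left_inj]
      rw [e0]
      have e1 : Squarefree (cyclotomic p F) := by
        have e2 : ((X : F[X]) ^ p - 1).Separable := X_pow_sub_one_separable_iff.2 hch
        refine e2.squarefree.squarefree_of_dvd ⟨X - 1, ?_⟩
        rw [cyclotomic_prime_mul_X_sub_one]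
      have e2 := sqfree (cyclotomic p F) e1 (g.restrict hR) (by
        ext x
        rw [aeval_res]
        obtain ⟨w, hw⟩ := x.2
        have e3 : aeval g (cyclotomic p F * (X - 1)) = 0 := by
          rw [cyclotomic_prime_mul_X_sub_one, map_sub, map_pow, aeval_X, map_one, hg, sub_self]
        rw [map_mul, map_sub, aeval_X, map_one] at e3
        rw [← hw, ← Module.End.mul_apply, e3]
        rfl)
      rwa [natDegree_cyclotomic, Nat.totient_prime hp] at e2
  set k := finrank F (LinearMap.ker (g - 1)) with hk
  set r := finrank F (LinearMap.range (g - 1)) with hr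
  set c := finrank F (CC (res (g - 1))) with hcd
  set C := finrank F (CC (g - 1)) with hCd
  rw [← h2] at hc ⊢
  obtain ⟨q, rfl⟩ : ∃ q, p = q + 1 := ⟨p - 1, by have := hp.pos; omega⟩
  rw [Nat.add_sub_cancel] at hc h3 ⊢
  clear_value k r c C
  clear hCC hg hp hpf h2 hk hr hcd hCd
  have h4 : (q : ℤ) * k - r ≤ q * m := by
    have h5 : ((q : ℤ) * k - r) ^ 2 ≤ (q * m) ^ 2 := by
      zify at hc h1 h3
      nlinarith [mul_le_mul_of_nonneg_left h1 (by positivity : (0 : ℤ) ≤ q * (q + 1)),
        mul_le_mul_of_nonneg_left hc (by positivity : (0 : ℤ) ≤ q),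
        mul_le_mul_of_nonneg_left h3 (by positivity : (0 : ℤ) ≤ q + 1)]
    exact abs_le_of_sq_le_sq' h5 (by positivity) |>.2
  zify
  linarith

end

end Cfsg.Agent.H748.GW
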